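import Mathlib
import Groth.Prelude.Def_W4c5cptfessfintypeLocImm

set_option autoImplicit false

universe u

namespace Groth.Agent.H90.LocImm

open _root_.LocImm

theorem isLocHom_algebraMap {A B : Type*} [CommRing A] [CommRing B] [inst : Algebra A B]
    (S : Submonoid A) [hS : IsLocalization S B] : IsLocHom (algebraMap A B) := by
  have h : (algebraMap A B).toAlgebra = inst := Algebra.algebra_ext _ _ (fun _ => rfl)
  unfold IsLocHom
  rw [h]
  exact ⟨S, hS⟩

theorem isLocHom_of_bijective {A B : Type*} [CommRing A] [CommRing B] (φ : A →+* B)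
    (h : Function.Bijective φ) : IsLocHom φ := by
  let _ := φ.toAlgebra
  refine ⟨⊥, ?_⟩
  apply IsLocalization.of_le_isUnit_of_bijective _ h
  rintro _ ⟨x, hx, rfl⟩
  rw [Submonoid.mem_bot.mp hx, map_one]
  exact isUnit_one

theorem IsLocHom.comp {A B C : Type*} [CommRing A] [CommRing B] [CommRing C]
    {φ : A →+* B} {ψ : B →+* C} (hφ : IsLocHom φ) (hψ : IsLocHom ψ) : IsLocHom (ψ.comp φ) := by
  obtain ⟨M, hM⟩ := hφ
  obtain ⟨N, hN⟩ := hψ
  let _ := φ.toAlgebra
  let _ := ψ.toAlgebra
  let _ := (ψ.comp φ).toAlgebra
  have : IsScalarTower A B C := IsScalarTower.of_algebraMap_eq' rfl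
  exact ⟨IsLocalization.localizationLocalizationSubmodule M N,
    IsLocalization.localization_localization_isLocalization M N C⟩

/-- the property of ring homs in a fixed universe -/
def LocQ : ∀ {R S : Type u} [CommRing R] [CommRing S], (R →+* S) → Prop :=
  fun {_ _} _ _ f => IsLocHom f

theorem locQ_respectsIso : RingHom.RespectsIso (@LocQ.{u}) := by
  constructor
  · intro R S T _ _ _ f e hf
    exact IsLocHom.comp hf (isLocHom_of_bijective _ e.bijective)
  · intro R S T _ _ _ f e hf
    exact IsLocHom.comp (isLocHom_of_bijective _ e.bijective) hf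

theorem locQ_holdsForLocalization : RingHom.HoldsForLocalization (@LocQ.{u}) := by
  intro R S _ _ _ M _
  exact isLocHom_algebraMap M

theorem locQ_stableUnderComposition : RingHom.StableUnderComposition (@LocQ.{u}) := by
  intro R S T _ _ _ f g hf hg
  exact IsLocHom.comp hf hg

theorem locQ_stableUnderCompositionWithLocalizationAway :
    RingHom.StableUnderCompositionWithLocalizationAway (@LocQ.{u}) := by
  constructor
  · intro R S T _ _ _ _ r _ f hf
    exact IsLocHom.comp (isLocHom_algebraMap (Submonoid.powers r)) hf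
  · intro R S T _ _ _ _ s _ f hf
    exact IsLocHom.comp hf (isLocHom_algebraMap (Submonoid.powers s))

theorem locQ_isStableUnderBaseChange : RingHom.IsStableUnderBaseChange (@LocQ.{u}) := by
  apply RingHom.IsStableUnderBaseChange.mk locQ_respectsIso
  intro R S T _ _ _ _ _ h
  obtain ⟨M, hM⟩ := h
  have h' : (algebraMap R T).toAlgebra = ‹Algebra R T› := Algebra.algebra_ext _ _ (fun _ => rfl)
  rw [h'] at hM
  exact isLocHom_algebraMap (Algebra.algebraMapSubmonoid S M)

theorem locQ_localizationAwayPreserves : RingHom.LocalizationAwayPreserves (@LocQ.{u}) := by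
  intro R S _ _ f r R' S' _ _ _ _ _ _ hf
  obtain ⟨M, hM⟩ := hf
  let _ := f.toAlgebra
  -- `S'` as an `R`-algebra
  let _ : Algebra R S' := ((algebraMap S S').comp f).toAlgebra
  have : IsScalarTower R S S' := IsScalarTower.of_algebraMap_eq' rfl
  let N := IsLocalization.localizationLocalizationSubmodule M (Submonoid.powers (f r))
  have hN : IsLocalization N S' :=
    IsLocalization.localization_localization_isLocalization M (Submonoid.powers (f r)) S'
  let _ : Algebra R' S' := (IsLocalization.Away.map R' S' f r).toAlgebra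
  have : IsScalarTower R R' S' := by
    apply IsScalarTower.of_algebraMap_eq'
    ext x
    show algebraMap S S' (f x) = IsLocalization.Away.map R' S' f r (algebraMap R R' x)
    rw [IsLocalization.Away.map, IsLocalization.map_eq]
  have hle : Submonoid.powers r ≤ N := by
    rintro _ ⟨n, rfl⟩
    rw [IsLocalization.mem_localizationLocalizationSubmodule]
    refine ⟨⟨f r ^ n, ⟨n, rfl⟩⟩, 1, ?_⟩
    simp [RingHom.algebraMap_toAlgebra]
  have key := IsLocalization.isLocalization_of_submonoid_le R' S' (Submonoid.powers r) N hle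
  exact ⟨_, key⟩

end Groth.Agent.H90.LocImm
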