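import Mathlib
import Groth.Prelude.Def_W4c5cptfessfintypeLocImm

set_option autoImplicit false

universe u

open CategoryTheory AlgebraicGeometry

namespace Groth.Agent.H90.LocImm

theorem localRingHom_bijective {A B : Type*} [CommRing A] [CommRing B] (φ : A →+* B)
    (hφ : _root_.LocImm.IsLocHom φ) (p : Ideal A) [p.IsPrime] (q : Ideal B) [q.IsPrime]
    (h : p = q.comap φ) : Function.Bijective (Localization.localRingHom p q φ h) := by
  let _ := φ.toAlgebra
  obtain ⟨S, hS⟩ := hφ
  subst h
  have hT : IsLocalization.AtPrime (Localization.AtPrime q) (q.comap (algebraMap A B)) :=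
    IsLocalization.isLocalization_isLocalization_atPrime_isLocalization S _ q
  have hT' : IsLocalization (q.comap φ).primeCompl (Localization.AtPrime q) := hT
  let e := IsLocalization.algEquiv (q.comap φ).primeCompl (Localization.AtPrime (q.comap φ))
    (Localization.AtPrime q)
  have heq : Localization.localRingHom (q.comap φ) q φ rfl = (e : _ →+* _) := by
    apply IsLocalization.ringHom_ext (q.comap φ).primeCompl
    ext a
    simp only [RingHom.comp_apply, Localization.localRingHom_to_map, e]
    have h1 : (e : _ →+* _) (algebraMap A (Localization.AtPrime (q.comap φ)) a)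
        = algebraMap A (Localization.AtPrime q) a := e.commutes a
    refine Eq.trans ?_ h1.symm
    rw [IsScalarTower.algebraMap_apply A B (Localization.AtPrime q)]
    rfl
  rw [heq]
  exact e.bijective

theorem isIso_stalkMap_of_isLocalizing {X Y : Scheme.{u}} (f : X ⟶ Y)
    (hf : _root_.LocImm.IsLocalizing f) (x : X) : IsIso (f.stalkMap x) := by
  obtain ⟨U, V, hxV, e, hloc⟩ := hf x
  have iso := IsAffineOpen.arrowStalkMapIso f U.1 U.2 V.1 V.2 e hxV
  refine ((MorphismProperty.isomorphisms CommRingCat).arrow_mk_iso_iff iso).mpr ?_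
  show IsIso _
  rw [ConcreteCategory.isIso_iff_bijective]
  exact localRingHom_bijective _ hloc _ _
    congr($(IsAffineOpen.comap_primeIdealOf_appLE U.1 U.2 V.1 V.2 e hxV).1).symm

theorem flat_of_isLocalizing {X Y : Scheme.{u}} (f : X ⟶ Y)
    (hf : _root_.LocImm.IsLocalizing f) : Flat f := by
  apply Flat.of_stalkMap
  intro x
  have := isIso_stalkMap_of_isLocalizing f hf x
  exact RingHom.Flat.of_bijective ((ConcreteCategory.isIso_iff_bijective _).mp this)

theorem generalizingMap_of_isLocalizing {X Y : Scheme.{u}} (f : X ⟶ Y)
    (hf : _root_.LocImm.IsLocalizing f) : GeneralizingMap f := by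
  have := flat_of_isLocalizing f hf
  exact Flat.generalizingMap f

end Groth.Agent.H90.LocImm
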