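import Mathlib

set_option autoImplicit false

namespace Groth.Agent.H90.LocImm

open TopologicalSpace Topology

section
variable {X Y : Type*} [TopologicalSpace X] [TopologicalSpace Y]

/-- Key closure computation: for an injective generalizing continuous map out of a Noetherian
quasi-sober space, the preimage of the closure of the image of a closed set is that closed set. -/
theorem preimage_closure_image_eq [NoetherianSpace X] [QuasiSober X] {f : X → Y}
    (hc : Continuous f) (hi : Function.Injective f) (hg : GeneralizingMap f)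
    {C : Set X} (hC : IsClosed C) : f ⁻¹' (closure (f '' C)) = C := by
  apply Set.Subset.antisymm
  · intro v hv
    obtain ⟨S, hSf, hSc, hSi, rfl⟩ := NoetherianSpace.exists_finite_set_isClosed_irreducible hC
    rw [Set.mem_preimage, Set.sUnion_eq_biUnion, Set.image_iUnion₂, hSf.closure_biUnion,
      Set.mem_iUnion₂] at hv
    obtain ⟨k, hk, hvk⟩ := hv
    obtain ⟨ξ, hξ⟩ := QuasiSober.sober (hSi k hk) (hSc k hk)
    have h1 : closure (f '' k) ⊆ closure {f ξ} := by
      apply closure_minimal _ isClosed_closure
      rw [← hξ.def, ← Set.image_singleton]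
      exact image_closure_subset_closure_image hc
    have h2 : f ξ ⤳ f v := specializes_iff_mem_closure.mpr (h1 hvk)
    obtain ⟨ξ', hξ', hfξ'⟩ := hg h2
    have : ξ' = ξ := hi hfξ'
    subst this
    refine Set.mem_sUnion.mpr ⟨k, hk, ?_⟩
    rw [← hξ.def]
    exact specializes_iff_mem_closure.mp hξ'
  · intro v hv
    exact subset_closure (Set.mem_image_of_mem f hv)

theorem isEmbedding_of_injective_of_generalizingMap [NoetherianSpace X] [QuasiSober X] {f : X → Y}
    (hc : Continuous f) (hi : Function.Injective f) (hg : GeneralizingMap f) :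
    IsEmbedding f := by
  refine ⟨⟨?_⟩, hi⟩
  apply TopologicalSpace.ext_isClosed
  intro C
  rw [isClosed_induced_iff]
  constructor
  · intro hC
    exact ⟨closure (f '' C), isClosed_closure, preimage_closure_image_eq hc hi hg hC⟩
  · rintro ⟨t, ht, rfl⟩
    exact ht.preimage hc

/-- In a Noetherian quasi-sober space, a closed set that is stable under generalization is open. -/
theorem isOpen_of_isClosed_of_stableUnderGeneralization [NoetherianSpace Y] [QuasiSober Y]
    {R : Set Y} (hR : IsClosed R) (hg : StableUnderGeneralization R) : IsOpen R := by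
  obtain ⟨S, hSf, hSc, hSi, hS⟩ :=
    NoetherianSpace.exists_finite_set_isClosed_irreducible (isClosed_univ (X := Y))
  have hcompl : Rᶜ = ⋃ k ∈ {k ∈ S | ¬ k ⊆ R}, k := by
    ext y
    simp only [Set.mem_compl_iff, Set.mem_iUnion, Set.mem_ofPred_eq, exists_prop]
    constructor
    · intro hy
      have : y ∈ ⋃₀ S := hS ▸ Set.mem_univ y
      obtain ⟨k, hk, hyk⟩ := Set.mem_sUnion.mp this
      exact ⟨k, ⟨hk, fun hsub => hy (hsub hyk)⟩, hyk⟩
    · rintro ⟨k, ⟨hk, hnot⟩, hyk⟩ hyR
      apply hnot
      obtain ⟨η, hη⟩ := QuasiSober.sober (hSi k hk) (hSc k hk)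
      have h1 : η ⤳ y := by
        rw [specializes_iff_mem_closure, hη.def]
        exact hyk
      have h2 : η ∈ R := hg h1 hyR
      rw [← hη.def]
      exact hR.closure_subset_iff.mpr (Set.singleton_subset_iff.mpr h2)
  rw [← isClosed_compl_iff, hcompl]
  apply Set.Finite.isClosed_biUnion
  · exact hSf.subset (fun k hk => hk.1)
  · intro k hk
    exact hSc k hk.1

end

end Groth.Agent.H90.LocImm
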