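import Mathlib
import Groth.Agent.H90.LocImm.RingProp
import Groth.Agent.H90.LocImm.Stalk
import Groth.Agent.H90.LocImm.Top

set_option autoImplicit false

universe u

open CategoryTheory AlgebraicGeometry

namespace Groth.Agent.H90.LocImm

open _root_.LocImm

/-- being localizing, as a morphism property -/
def LocP : MorphismProperty Scheme.{u} := fun _ _ f => IsLocalizing f

theorem locP_iff {X Y : Scheme.{u}} (f : X ⟶ Y) : LocP f ↔ IsLocalizing f := Iff.rfl

instance locP_hasRingHomProperty : HasRingHomProperty LocP.{u} (RingHom.Locally (@LocQ.{u})) :=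
  HasRingHomProperty.locally_of_iff locQ_localizationAwayPreserves
    locQ_stableUnderCompositionWithLocalizationAway (fun _ => Iff.rfl)

instance locP_isStableUnderBaseChange : LocP.{u}.IsStableUnderBaseChange :=
  HasRingHomProperty.isStableUnderBaseChange
    (RingHom.locally_isStableUnderBaseChange locQ_respectsIso locQ_isStableUnderBaseChange)

theorem surjectiveOnStalks_of_isLocalizing {X Y : Scheme.{u}} (f : X ⟶ Y)
    (hf : IsLocalizing f) : SurjectiveOnStalks f := by
  refine ⟨fun x => ?_⟩
  have := isIso_stalkMap_of_isLocalizing f hf x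
  exact ((ConcreteCategory.isIso_iff_bijective _).mp this).2

theorem mono_of_isLocImmersion {X Y : Scheme.{u}} (f : X ⟶ Y) (hf : IsLocImmersion f) :
    Mono f := by
  have := surjectiveOnStalks_of_isLocalizing f hf.1
  exact SurjectiveOnStalks.mono_of_injective hf.2

theorem injective_of_mono {X Y : Scheme.{u}} (f : X ⟶ Y) [Mono f] :
    Function.Injective f.base :=
  Scheme.Hom.injective f

theorem isLocImmersion_iff_mono {X Y : Scheme.{u}} (f : X ⟶ Y) :
    IsLocImmersion f ↔ (IsLocalizing f ∧ Mono f) :=
  ⟨fun h => ⟨h.1, mono_of_isLocImmersion f h⟩, fun h => ⟨h.1, @injective_of_mono _ _ f h.2⟩⟩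

theorem isLocImmersion_pullback_snd {X Y Y' : Scheme.{u}} (f : X ⟶ Y) (g : Y' ⟶ Y)
    (hf : IsLocImmersion f) : IsLocImmersion (Limits.pullback.snd f g) := by
  have hm : Mono f := mono_of_isLocImmersion f hf
  rw [isLocImmersion_iff_mono]
  exact ⟨MorphismProperty.pullback_snd (P := LocP) f g hf.1, inferInstance⟩

end Groth.Agent.H90.LocImm
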