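import Mathlib
import Groth.Agent.H90.LocImm.Prop

set_option autoImplicit false

universe u

open CategoryTheory AlgebraicGeometry Opposite

namespace Groth.Agent.H90.LocImm

open _root_.LocImm

/-- localizing ring maps induce injective maps on prime spectra -/
theorem comap_injective_of_isLocHom {A B : Type*} [CommRing A] [CommRing B] (φ : A →+* B)
    (hφ : IsLocHom φ) : Function.Injective (PrimeSpectrum.comap φ) := by
  let _ := φ.toAlgebra
  obtain ⟨S, hS⟩ := hφ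
  exact PrimeSpectrum.localization_comap_injective B S

/-- the "if" direction of the affine criterion -/
theorem isLocImmersion_of_affine {X Y : Scheme.{u}} (f : X ⟶ Y)
    (h : ∀ x : X, ∃ V : Y.Opens, f x ∈ V ∧ IsAffineOpen V ∧ IsAffineOpen (f ⁻¹ᵁ V) ∧
      IsLocHom (f.app V).hom) : IsLocImmersion f := by
  constructor
  · intro x
    obtain ⟨V, hxV, hV, hW, hloc⟩ := h x
    refine ⟨⟨V, hV⟩, ⟨f ⁻¹ᵁ V, hW⟩, hxV, le_rfl, ?_⟩
    rw [Scheme.Hom.appLE_eq_app]
    exact hloc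
  · intro x₁ x₂ hx
    obtain ⟨V, hxV, hV, hW, hloc⟩ := h x₁
    have hx₁ : x₁ ∈ f ⁻¹ᵁ V := hxV
    have hx₂ : x₂ ∈ f ⁻¹ᵁ V := by
      show f x₂ ∈ V
      have : f x₂ = f x₁ := hx.symm
      rw [this]; exact hxV
    have h1 := IsAffineOpen.comap_primeIdealOf_appLE (f := f) V hV (f ⁻¹ᵁ V) hW le_rfl hx₁
    have h2 := IsAffineOpen.comap_primeIdealOf_appLE (f := f) V hV (f ⁻¹ᵁ V) hW le_rfl hx₂
    have h3 : hV.primeIdealOf ⟨f x₁, hx₁⟩ = hV.primeIdealOf ⟨f x₂, hx₂⟩ := by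
      congr 1
      exact Subtype.ext hx
    rw [← h1, ← h2] at h3
    have hloc' : IsLocHom (f.appLE V (f ⁻¹ᵁ V) le_rfl).hom := by
      rw [Scheme.Hom.appLE_eq_app]; exact hloc
    have h4 := comap_injective_of_isLocHom _ hloc' h3
    have h5 := hW.fromSpec_primeIdealOf ⟨x₁, hx₁⟩
    have h6 := hW.fromSpec_primeIdealOf ⟨x₂, hx₂⟩
    rw [h4] at h5
    exact h5.symm.trans h6

/-- the "only if" direction of the affine criterion -/
theorem exists_affine_of_isLocImmersion {X Y : Scheme.{u}} [IsNoetherian X] (f : X ⟶ Y)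
    (hf : IsLocImmersion f) (x : X) :
    ∃ V : Y.Opens, f x ∈ V ∧ IsAffineOpen V ∧ IsAffineOpen (f ⁻¹ᵁ V) ∧
      IsLocHom (f.app V).hom := by
  obtain ⟨U0, V0, hxV0, e, hloc⟩ := hf.1 x
  have hg := generalizingMap_of_isLocalizing f hf.1
  have hemb : Topology.IsEmbedding f :=
    isEmbedding_of_injective_of_generalizingMap f.continuous hf.2 hg
  obtain ⟨t, ht, hpre⟩ := hemb.isInducing.isOpen_iff.mp V0.1.isOpen
  let U1 : Y.Opens := ⟨t, ht⟩
  have hfx1 : f x ∈ U1 := by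
    show x ∈ f ⁻¹' t
    rw [hpre]; exact hxV0
  have hfx0 : f x ∈ U0.1 := e hxV0
  obtain ⟨a, ha_le, ha_mem⟩ :=
    U0.2.exists_basicOpen_le (V := U1 ⊓ U0.1) ⟨f x, ⟨hfx1, hfx0⟩⟩ hfx0
  have hW : f ⁻¹ᵁ Y.basicOpen a = X.basicOpen ((f.appLE U0.1 V0.1 e).hom a) := by
    rw [Scheme.preimage_basicOpen]
    have hb : (f.appLE U0.1 V0.1 e).hom a
        = (X.presheaf.map (homOfLE e).op).hom ((f.app U0.1).hom a) := rfl
    rw [hb]
    erw [Scheme.basicOpen_res]
    symm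
    apply inf_eq_right.mpr
    rw [← Scheme.preimage_basicOpen]
    intro z hz
    have h1 : f z ∈ U1 := (ha_le hz).1
    show z ∈ (V0.1 : Set X)
    rw [← hpre]; exact h1
  refine ⟨Y.basicOpen a, ha_mem, U0.2.basicOpen a, ?_, ?_⟩
  · rw [hW]; exact V0.2.basicOpen _
  · rw [Scheme.Hom.app_eq_appLE]
    refine (Scheme.Hom.appLE_congr f le_rfl rfl hW (fun φ => IsLocHom φ.hom)).mpr ?_
    have key := IsAffineOpen.appLE_eq_away_map f U0.2 V0.2 e a
    have h1 := U0.2.isLocalization_basicOpen a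
    have h2 := V0.2.isLocalization_basicOpen ((f.appLE U0.1 V0.1 e).hom a)
    have h3 : LocQ (IsLocalization.Away.map Γ(Y, Y.basicOpen a)
        Γ(X, X.basicOpen ((f.appLE U0.1 V0.1 e).hom a)) (f.appLE U0.1 V0.1 e).hom a) :=
      locQ_localizationAwayPreserves (f.appLE U0.1 V0.1 e).hom a _ _ hloc
    have h4 := congrArg CommRingCat.Hom.hom key
    rw [CommRingCat.hom_ofHom] at h4
    show IsLocHom _
    erw [h4]
    exact h3

end Groth.Agent.H90.LocImm
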