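import Mathlib
import Groth.Agent.H90.LocImm.Affine

set_option autoImplicit false

universe u

open CategoryTheory AlgebraicGeometry Opposite Topology

namespace Groth.Agent.H90.LocImm

open _root_.LocImm

/-- if a composite `C → A → B` is localizing and `A → B` is injective then `A → B` is localizing -/
theorem isLocHom_of_comp_of_injective {C A B : Type*} [CommRing C] [CommRing A] [CommRing B]
    (γ : C →+* A) (α : A →+* B) (h : IsLocHom (α.comp γ)) (hα : Function.Injective α) :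
    IsLocHom α := by
  obtain ⟨S, hS⟩ := h
  let _ := (α.comp γ).toAlgebra
  let _ := α.toAlgebra
  refine ⟨S.map γ, ?_⟩
  rw [isLocalization_iff]
  refine ⟨?_, ?_, ?_⟩
  · rintro ⟨_, s, hs, rfl⟩
    exact IsLocalization.map_units B (⟨s, hs⟩ : S)
  · intro z
    obtain ⟨⟨c, s⟩, hcs⟩ := IsLocalization.surj S z
    exact ⟨⟨γ c, ⟨γ s, Submonoid.mem_map_of_mem γ s.2⟩⟩, hcs⟩
  · intro a a' haa'
    exact ⟨1, by rw [hα haa']⟩

/-- passing to a basic open of the target preserves the affine localizing shape -/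
theorem isLocHom_app_basicOpen {X Z : Scheme.{u}} (h : X ⟶ Z) {W : Z.Opens} (hW : IsAffineOpen W)
    (hV : IsAffineOpen (h ⁻¹ᵁ W)) (hloc : IsLocHom (h.app W).hom) (c : Γ(Z, W)) :
    IsAffineOpen (h ⁻¹ᵁ Z.basicOpen c) ∧ IsLocHom (h.app (Z.basicOpen c)).hom := by
  have hpre : h ⁻¹ᵁ Z.basicOpen c = X.basicOpen ((h.app W).hom c) := Scheme.preimage_basicOpen h c
  constructor
  · rw [hpre]; exact hV.basicOpen _
  · have key := IsAffineOpen.app_basicOpen_eq_away_map h hW hV c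
    have h1 := hW.isLocalization_basicOpen c
    have h2 := hV.isLocalization_basicOpen ((h.app W).hom c)
    have h3 : LocQ (IsLocalization.Away.map Γ(Z, Z.basicOpen c)
        Γ(X, X.basicOpen ((h.app W).hom c)) (h.app W).hom c) :=
      locQ_localizationAwayPreserves (h.app W).hom c _ _ hloc
    rw [key, CommRingCat.hom_comp, CommRingCat.hom_ofHom]
    refine IsLocHom.comp h3 (isLocHom_of_bijective _ ?_)
    exact ConcreteCategory.bijective_of_isIso (X.presheaf.map (eqToHom _).op)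

theorem isLocImmersion_of_dense {X Y Z : Scheme.{u}} [IsNoetherian X] (f : X ⟶ Y) (g : Y ⟶ Z)
    (hfg : IsLocImmersion (f ≫ g))
    (hd : ∀ U : Y.Opens, Function.Injective (f.app U).hom) : IsLocImmersion f := by
  have hinj : Function.Injective f.base := by
    intro a b hab
    apply hfg.2
    show (f ≫ g) a = (f ≫ g) b
    rw [Scheme.Hom.comp_apply, Scheme.Hom.comp_apply]
    exact congrArg (fun y => g y) hab
  refine ⟨?_, hinj⟩
  intro x
  have hgen := generalizingMap_of_isLocalizing (f ≫ g) hfg.1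
  have hemb : IsEmbedding (f ≫ g) :=
    isEmbedding_of_injective_of_generalizingMap (f ≫ g).continuous hfg.2 hgen
  obtain ⟨W, hxW, hW, hV, hloc⟩ := exists_affine_of_isLocImmersion (f ≫ g) hfg x
  have hfxW : f x ∈ g ⁻¹ᵁ W := hxW
  obtain ⟨U0, hU0, hfxU0, hU0W⟩ :=
    TopologicalSpace.Opens.isBasis_iff_nbhd.mp Y.isBasis_affineOpens hfxW
  obtain ⟨O, hO, hOpre⟩ := hemb.isInducing.isOpen_iff.mp (f ⁻¹ᵁ U0).isOpen
  let O' : Z.Opens := ⟨O, hO⟩
  have hxO : (f ≫ g) x ∈ O' := by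
    show x ∈ (f ≫ g) ⁻¹' O
    rw [hOpre]; exact hfxU0
  obtain ⟨c, hc_le, hc_mem⟩ :=
    hW.exists_basicOpen_le (V := O' ⊓ W) ⟨(f ≫ g) x, ⟨hxO, hxW⟩⟩ hxW
  obtain ⟨hV', hloc'⟩ := isLocHom_app_basicOpen (f ≫ g) hW hV hloc c
  have hU' : IsAffineOpen (Y.basicOpen ((g.appLE W U0 hU0W).hom c)) := hU0.basicOpen _
  have hU'eq : Y.basicOpen ((g.appLE W U0 hU0W).hom c) = U0 ⊓ g ⁻¹ᵁ Z.basicOpen c := by
    have hb : (g.appLE W U0 hU0W).hom c
        = (Y.presheaf.map (homOfLE hU0W).op).hom ((g.app W).hom c) := rfl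
    rw [hb]
    erw [Scheme.basicOpen_res]
    rw [Scheme.preimage_basicOpen]
  have hpre_eq : f ⁻¹ᵁ Y.basicOpen ((g.appLE W U0 hU0W).hom c)
      = (f ≫ g) ⁻¹ᵁ Z.basicOpen c := by
    rw [hU'eq]
    ext z
    constructor
    · rintro ⟨_, hz2⟩
      exact hz2
    · intro hz
      refine ⟨?_, hz⟩
      have h1 : (f ≫ g) z ∈ O' := (hc_le hz).1
      show z ∈ ((f ⁻¹ᵁ U0 : X.Opens) : Set X)
      rw [← hOpre]; exact h1
  have hU'W : Y.basicOpen ((g.appLE W U0 hU0W).hom c) ≤ g ⁻¹ᵁ Z.basicOpen c :=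
    hU'eq ▸ inf_le_right
  refine ⟨⟨_, hU'⟩, ⟨(f ≫ g) ⁻¹ᵁ Z.basicOpen c, hV'⟩, hc_mem, le_of_eq hpre_eq.symm, ?_⟩
  have hcomp := Scheme.Hom.appLE_comp_appLE f g (Z.basicOpen c)
    (Y.basicOpen ((g.appLE W U0 hU0W).hom c)) ((f ≫ g) ⁻¹ᵁ Z.basicOpen c) hU'W
    (le_of_eq hpre_eq.symm)
  apply isLocHom_of_comp_of_injective
    (g.appLE (Z.basicOpen c) (Y.basicOpen ((g.appLE W U0 hU0W).hom c)) hU'W).hom
  · rw [← CommRingCat.hom_comp, hcomp, Scheme.Hom.appLE_eq_app]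
    exact hloc'
  · refine (Scheme.Hom.appLE_congr f (le_of_eq hpre_eq.symm) rfl hpre_eq.symm
      (fun φ => Function.Injective φ.hom)).mpr ?_
    rw [Scheme.Hom.appLE_eq_app]
    exact hd _

end Groth.Agent.H90.LocImm
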