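import Mathlib
import Groth.Agent.H90.LocImm.Affine

set_option autoImplicit false

universe u

open CategoryTheory AlgebraicGeometry Opposite

namespace Groth.Agent.H90.LocImm

open _root_.LocImm

/-- contraction of ideals along a localizing ring map is injective -/
theorem ideal_comap_injective_of_isLocHom {A B : Type*} [CommRing A] [CommRing B] (φ : A →+* B)
    (hφ : IsLocHom φ) : Function.Injective (Ideal.comap φ) := by
  let _ := φ.toAlgebra
  obtain ⟨S, hS⟩ := hφ
  intro I I' h
  have h1 := IsLocalization.map_under S B I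
  have h2 := IsLocalization.map_under S B I'
  have h' : I.under A = I'.under A := h
  rw [← h1, ← h2, h']

theorem exists_comap_eq {X Y : Scheme.{u}} [IsNoetherian X] (f : X ⟶ Y)
    (hf : IsLocImmersion f) (I : X.IdealSheafData) : ∃ J : Y.IdealSheafData, J.comap f = I := by
  refine ⟨I.map f, ?_⟩
  have hle : (I.map f).comap f ≤ I := Scheme.IdealSheafData.comap_map_le I f
  have hmap : ((I.map f).comap f).map f = I.map f :=
    le_antisymm (Scheme.IdealSheafData.map_mono f hle)
      (Scheme.IdealSheafData.le_map_comap (I.map f) f)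
  choose V hxV hV hW hloc using exists_affine_of_isLocImmersion f hf
  apply Scheme.IdealSheafData.ext_of_iSup_eq_top
    (fun x : X => (⟨f ⁻¹ᵁ V x, hW x⟩ : X.affineOpens))
  · rw [eq_top_iff]
    intro x _
    exact TopologicalSpace.Opens.mem_iSup.mpr ⟨x, hxV x⟩
  · intro x
    have h1 := Scheme.IdealSheafData.ideal_map I f ⟨V x, hV x⟩ (hW x)
    have h2 := Scheme.IdealSheafData.ideal_map ((I.map f).comap f) f ⟨V x, hV x⟩ (hW x)
    rw [hmap, h1] at h2
    exact (ideal_comap_injective_of_isLocHom _ (hloc x) h2).symm

end Groth.Agent.H90.LocImm
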