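import Mathlib
import Groth.Agent.H90.LocImm.Prop

set_option autoImplicit false

universe u

open CategoryTheory AlgebraicGeometry Opposite Topology

namespace Groth.Agent.H90.LocImm

open _root_.LocImm

section top
variable {X Y : Type*} [TopologicalSpace X] [TopologicalSpace Y]

/-- every point of a quasi-sober T0 space has a maximal generization -/
theorem exists_maximal_generization [QuasiSober X] [T0Space X] (x : X) :
    ∃ ξ : X, ξ ⤳ x ∧ ∀ ξ' : X, ξ' ⤳ ξ → ξ' = ξ := by
  obtain ⟨ξ, hξ⟩ := QuasiSober.sober (isIrreducible_irreducibleComponent (x := x))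
    isClosed_irreducibleComponent
  refine ⟨ξ, ?_, ?_⟩
  · rw [specializes_iff_mem_closure, hξ.def]
    exact mem_irreducibleComponent
  · intro ξ' h
    have hsub : irreducibleComponent x ⊆ closure {ξ'} := by
      rw [← hξ.def]
      exact closure_minimal (Set.singleton_subset_iff.mpr (specializes_iff_mem_closure.mp h))
        isClosed_closure
    have heq : closure {ξ'} = irreducibleComponent x :=
      eq_irreducibleComponent isIrreducible_singleton.closure.isPreirreducible hsub
    have hgen : IsGenericPoint ξ' (irreducibleComponent x) := heq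
    exact hgen.eq hξ

/-- a common maximal generization for two points with the same image -/
theorem exists_common_generization [QuasiSober X] [T0Space X] {f : X → Y} (hc : Continuous f)
    (hg : GeneralizingMap f)
    (hinj : Set.InjOn f {x : X | ∀ x' : X, x' ⤳ x → x' = x}) {x₁ x₂ : X} (h : f x₁ = f x₂) :
    ∃ ξ : X, ξ ⤳ x₁ ∧ ξ ⤳ x₂ := by
  obtain ⟨ξ₁, h1, hmax1⟩ := exists_maximal_generization x₁
  have hη : f ξ₁ ⤳ f x₂ := h ▸ (h1.map hc)
  obtain ⟨ξ₂, h2, hfξ₂⟩ := hg hη
  obtain ⟨ξ₂', h2', hmax2⟩ := exists_maximal_generization ξ₂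
  have h3 : f ξ₂' ⤳ f ξ₁ := hfξ₂ ▸ (h2'.map hc)
  obtain ⟨ξ₁', h4, hfξ₁'⟩ := hg h3
  have h5 : ξ₁' = ξ₁ := hmax1 ξ₁' h4
  rw [h5] at hfξ₁'
  have h6 : ξ₁ = ξ₂' := hinj hmax1 hmax2 hfξ₁'
  exact ⟨ξ₁, h1, h6 ▸ (h2'.trans h2)⟩

end top

theorem injective_of_isSeparated {X Y : Scheme.{u}} (f : X ⟶ Y) (hf : IsLocalizing f)
    [IsSeparated f]
    (hinj : Set.InjOn (fun x => f x) {x : X | ∀ x' : X, x' ⤳ x → x' = x}) :
    Function.Injective f := by
  have hs := surjectiveOnStalks_of_isLocalizing f hf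
  have hg := generalizingMap_of_isLocalizing f hf
  have hemb := SurjectiveOnStalks.isEmbedding_pullback f f
  have hcl : IsClosed (Set.range (Limits.pullback.diagonal f)) :=
    (Limits.pullback.diagonal f).isClosedEmbedding.isClosed_range
  obtain ⟨C, hC, hpre⟩ := hemb.isInducing.isClosed_iff.mp hcl
  intro x₁ x₂ h
  obtain ⟨ξ, hξ1, hξ2⟩ := exists_common_generization f.continuous hg hinj h
  have hξC : ((ξ, ξ) : X × X) ∈ C := by
    have : Limits.pullback.diagonal f ξ ∈ Set.range (Limits.pullback.diagonal f) := ⟨ξ, rfl⟩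
    rw [← hpre] at this
    have h2 : ((Limits.pullback.fst f f) ((Limits.pullback.diagonal f) ξ),
        (Limits.pullback.snd f f) ((Limits.pullback.diagonal f) ξ)) ∈ C := this
    rw [← Scheme.Hom.comp_apply, ← Scheme.Hom.comp_apply, Limits.pullback.diagonal_fst,
      Limits.pullback.diagonal_snd] at h2
    exact h2
  have hxC : ((x₁, x₂) : X × X) ∈ C := (Specializes.prod hξ1 hξ2).mem_closed hC hξC
  obtain ⟨z, hz1, hz2⟩ := Scheme.Pullback.exists_preimage_pullback (f := f) (g := f) x₁ x₂ h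
  have hz : z ∈ Set.range (Limits.pullback.diagonal f) := by
    rw [← hpre]
    show ((Limits.pullback.fst f f) z, (Limits.pullback.snd f f) z) ∈ C
    rw [hz1, hz2]; exact hxC
  obtain ⟨x, rfl⟩ := hz
  rw [← Scheme.Hom.comp_apply, Limits.pullback.diagonal_fst] at hz1
  rw [← Scheme.Hom.comp_apply, Limits.pullback.diagonal_snd] at hz2
  exact hz1.symm.trans hz2

end Groth.Agent.H90.LocImm
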